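import Cfsg.Agent.SmallPSL.SixModel
import Cfsg.Agent.Transfer.Frobenius

/-!
All simple groups of order 360 are isomorphic: coordinates on the projective line over the field
with nine elements.
-/

namespace Cfsg.Agent.SmallPSL.Nine

open Subgroup

/-- Translations as permutations. -/
def shPerm (u : V) : Equiv.Perm Pt := Equiv.optionCongr (Equiv.addRight u)

/-- Multiplication by `i` as a permutation. -/
def rotPerm : Equiv.Perm Pt :=
  Equiv.optionCongr
    { toFun := rot, invFun := rot^[3],
      left_inv := by decide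
      right_inv := by decide }

/-- Inversion as a permutation. -/
def w0Perm : Equiv.Perm Pt := w0_involutive.toPerm

/-- The model group of order 360. -/
def model : Subgroup (Equiv.Perm Pt) :=
  closure {shPerm (1, 0), shPerm (0, 1), rotPerm, w0Perm}

variable {G : Type*} [Group G] [Finite G] [IsSimpleGroup G]

section Local

variable (hc : Nat.card G = 360)
include hc

theorem not_comm : ¬ IsMulCommutative G :=
  SmallGroups.not_isMulCommutative (by rw [hc]; norm_num)

theorem card_sylow_three_subgroup (P : Sylow 3 G) : Nat.card (P : Subgroup G) = 9 :=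
  SmallGroups.card_sylow_subgroup (a := 2) (m := 40) (by rw [hc]; norm_num) (by norm_num) P

theorem comm_sylow_three (P : Sylow 3 G) : IsMulCommutative (P : Subgroup G) :=
  IsPGroup.isMulCommutative_of_card_eq_prime_sq (p := 3) (card_sylow_three_subgroup hc P)

theorem card_sylow_three : Nat.card (Sylow 3 G) = 10 := by
  have hG := not_comm hc
  have hmem := SmallGroups.card_sylow_mem hG (p := 3) (a := 1) (m := 40) (by rw [hc]; norm_num)
    (by norm_num)
  have h4 : Nat.card (Sylow 3 G) ≠ 4 := fun h => by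
    have := SmallGroups.two_mul_card_dvd_factorial_card_sylow hG (p := 3) (by rw [hc]; norm_num)
    rw [h, hc] at this
    norm_num [Nat.factorial] at this
  have h40 : Nat.card (Sylow 3 G) ≠ 40 := fun h => by
    let P : Sylow 3 G := default
    have h1 := SmallGroups.card_sylow_mul_card_normalizer P
    rw [h, hc] at h1
    have hP := card_sylow_three_subgroup hc P
    have hNP : (P : Subgroup G) = normalizer ((P : Subgroup G) : Set G) :=
      eq_of_le_of_card_ge le_normalizer (by omega)
    refine SmallGroups.not_normalizer_le_centralizer hG (by rw [hc]; norm_num) P ?_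
    have := comm_sylow_three hc P
    exact hNP.ge.trans P.le_centralizer
  have key : ∀ d ∈ (40 : ℕ).divisors.filter (fun n => n % 3 = 1 ∧ 1 < n),
      d = 4 ∨ d = 10 ∨ d = 40 := by decide
  exact ((key _ hmem).resolve_left h4).resolve_right h40

theorem eq_of_smul_eq (P Q : Sylow 3 G) {x : G} (hx : x ∈ (P : Subgroup G)) (hx1 : x ≠ 1)
    (hxQ : x • Q = Q) : Q = P := by
  have hG := not_comm hc
  by_contra hne
  have hxQ' : x ∈ (Q : Subgroup G) := by
    have hxp : IsPGroup 3 (zpowers x) := P.2.to_le (zpowers_le.mpr hx)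
    exact ((hxp.inf_normalizer_sylow Q).le
      ⟨mem_zpowers x, Sylow.smul_eq_iff_mem_normalizer.mp hxQ⟩).2
  let C := centralizer ({x} : Set G)
  have hle : ∀ R : Sylow 3 G, x ∈ (R : Subgroup G) → (R : Subgroup G) ≤ C := fun R hR y hy => by
    refine mem_centralizer_singleton_iff.mpr ?_
    exact congrArg Subtype.val ((comm_sylow_three hc R).is_comm.comm
      (⟨y, hy⟩ : (R : Subgroup G)) ⟨x, hR⟩)
  have hCtop : C ≠ ⊤ := fun h => by
    have : x ∈ center G := mem_center_iff.mpr fun y =>
      mem_centralizer_singleton_iff.mp (show y ∈ C by rw [h]; exact mem_top y)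
    rw [SmallGroups.center_eq_bot hG, mem_bot] at this
    exact hx1 this
  have hPC := hle P hx
  have hQC := hle Q hxQ'
  obtain ⟨m, hm⟩ : 9 ∣ Nat.card C := card_sylow_three_subgroup hc P ▸ card_dvd_of_le hPC
  have hidx : C.index * m = 40 := by
    have := C.card_mul_index
    rw [hm, hc, mul_assoc] at this
    rw [mul_comm]
    omega
  have hidx6 : ¬ C.index ∈ ({1, 2, 4, 5} : Finset ℕ) := fun h => hCtop <| by
    refine SmallGroups.eq_top_of_not_dvd hG ?_
    rw [hc]
    simp only [Finset.mem_insert, Finset.mem_singleton] at h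
    rcases h with h | h | h | h <;> rw [h] <;> norm_num [Nat.factorial]
  let P' : Sylow 3 C := P.subtype hPC
  have hP'card : Nat.card (P' : Subgroup C) = 9 := by
    rw [Sylow.coe_subtype, Nat.card_congr (subgroupOfEquivOfLe hPC).toEquiv]
    exact card_sylow_three_subgroup hc P
  have hn1 : 1 < Nat.card (Sylow 3 C) :=
    Finite.one_lt_card_iff_nontrivial.mpr
      ⟨⟨P', Q.subtype hQC, fun h => hne (Sylow.subtype_injective h).symm⟩⟩
  have hm40 : m ∣ 40 := ⟨C.index, by rw [← hidx, mul_comm]⟩
  have hm0 : m ≠ 0 := by rintro rfl; omega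
  have hndvd : Nat.card (Sylow 3 C) ∣ m := by
    refine SmallGroups.card_sylow_dvd (a := 2) (m := m) ?_
    rw [hm]
    norm_num
  have hmod : Nat.card (Sylow 3 C) % 3 = 1 := card_sylow_modEq_one 3 C
  have key : ∀ i ∈ (40 : ℕ).divisors, ∀ d ∈ i.divisors, d % 3 = 1 → 1 < d →
      ¬ (40 / i) ∈ ({1, 2, 4, 5} : Finset ℕ) → i = 4 ∧ d = 4 := by decide
  obtain ⟨rfl, hn⟩ := key m (Nat.mem_divisors.mpr ⟨hm40, by norm_num⟩) _
    (Nat.mem_divisors.mpr ⟨hndvd, hm0⟩) hmod hn1
    (by rwa [← hidx, Nat.mul_div_cancel _ (Nat.pos_of_ne_zero hm0)])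
  have hN9 : Nat.card (normalizer ((P' : Subgroup C) : Set C)) = 9 := by
    have := SmallGroups.card_sylow_mul_card_normalizer P'
    rw [hn, hm] at this
    omega
  have hNeq : (P' : Subgroup C) = normalizer ((P' : Subgroup C) : Set C) :=
    eq_of_le_of_card_ge le_normalizer (by rw [hN9, hP'card])
  have hP'c : IsMulCommutative (P' : Subgroup C) :=
    IsPGroup.isMulCommutative_of_card_eq_prime_sq (p := 3) hP'card
  have hnpc := Transfer.hasNormalPComplement_of_normalizer_le_centralizer P'
    (hNeq.ge.trans P'.le_centralizer)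
  let W := (Cfsg.pResidual 3 C).map C.subtype
  have hW : Nat.card W = 4 := by
    have := (Transfer.isComplement'_pResidual hnpc P').card_mul_card
    rw [hP'card, hm] at this
    rw [card_map_of_injective C.subtype_injective]
    omega
  have hCW : C ≤ normalizer (W : Set G) := by
    have h1 := le_normalizer_map (H := Cfsg.pResidual 3 C) C.subtype
    rw [normalizer_eq_top, ← MonoidHom.range_eq_map, range_subtype] at h1
    exact h1
  have hW2 : IsPGroup 2 W := IsPGroup.of_card (n := 2) (by rw [hW]; norm_num)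
  obtain ⟨S, hS⟩ := hW2.exists_le_sylow
  have hS8 : Nat.card (S : Subgroup G) = 8 :=
    SmallGroups.card_sylow_subgroup (a := 3) (m := 45) (by rw [hc]; norm_num) (by norm_num) S
  have hSW : (S : Subgroup G) ≤ normalizer (W : Set G) := by
    have hrel : W.relIndex S = 2 := by
      have h2 := (W.subgroupOf (S : Subgroup G)).card_mul_index
      rw [Nat.card_congr (subgroupOfEquivOfLe hS).toEquiv, hW, hS8] at h2
      show (W.subgroupOf (S : Subgroup G)).index = 2
      omega
    exact (normal_subgroupOf_iff_le_normalizer hS).mp (normal_of_index_eq_two hrel)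
  have h72 : 72 ∣ Nat.card (normalizer (W : Set G)) :=
    Nat.dvd_trans (show 72 ∣ Nat.lcm 36 8 by norm_num)
      (Nat.lcm_dvd
        (Nat.dvd_trans (dvd_of_eq (by rw [hm])) (card_dvd_of_le hCW))
        (Nat.dvd_trans (dvd_of_eq hS8.symm) (card_dvd_of_le hSW)))
  have htop : normalizer (W : Set G) = ⊤ := by
    refine SmallGroups.eq_top_of_not_dvd hG ?_
    obtain ⟨r, hr⟩ := h72
    have h3 := (normalizer (W : Set G)).card_mul_index
    rw [hr, hc] at h3
    have h5 : (normalizer (W : Set G)).index ≤ 5 := by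
      rcases Nat.eq_zero_or_pos r with rfl | hr0
      · omega
      · nlinarith
    rw [hc]
    interval_cases h : (normalizer (W : Set G)).index <;> norm_num [Nat.factorial]
  have hWtop := SmallGroups.eq_top_of_normal (normalizer_eq_top_iff.mp htop)
    (fun h => by rw [h, card_bot] at hW; omega)
  rw [hWtop, card_top, hc] at hW
  omega

end Local

/-- Coordinates on `P` from a basis. -/
def basisMap (x y : G) (v : V) : G := x ^ v.1.val * y ^ v.2.val

omit [Finite G] [IsSimpleGroup G] in
theorem pow_val_add3 {g : G} (hg : g ^ 3 = 1) (i j : ZMod 3) :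
    g ^ (i + j).val = g ^ i.val * g ^ j.val := by
  rw [ZMod.val_add, ← pow_add]
  exact (pow_eq_pow_mod _ hg).symm

omit [Finite G] [IsSimpleGroup G] in
theorem basisMap_add {x y : G} (hx : x ^ 3 = 1) (hy : y ^ 3 = 1) (hxy : Commute x y) (u v : V) :
    basisMap x y (u + v) = basisMap x y u * basisMap x y v := by
  rw [basisMap, basisMap, basisMap, Prod.fst_add, Prod.snd_add, pow_val_add3 hx, pow_val_add3 hy,
    (hxy.pow_pow _ _).mul_mul_mul_comm]

omit [Finite G] [IsSimpleGroup G] in
theorem basisMap_injective {x y : G} (hx : x ^ 3 = 1) (hy : y ^ 3 = 1) (hxy : Commute x y)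
    (hx1 : x ≠ 1) (hind : y ∉ zpowers x) : Function.Injective (basisMap x y) := by
  intro u v huv
  have h0 : basisMap x y (u - v) = 1 := by
    have := basisMap_add hx hy hxy (u - v) v
    rw [sub_add_cancel, huv] at this
    exact mul_eq_right.mp this.symm
  have hox : orderOf x = 3 := orderOf_eq_prime hx hx1
  rcases h : u - v with ⟨a, b⟩
  rw [h, basisMap] at h0
  have hb : b = 0 := by
    by_contra hb
    have hyb : y ^ b.val ∈ zpowers x := by
      rw [← inv_eq_of_mul_eq_one_right h0]
      exact inv_mem (pow_mem (mem_zpowers x) _)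
    have h2 := pow_mem hyb b.val
    rw [← pow_mul, pow_eq_pow_mod _ hy, ← ZMod.val_mul,
      show b * b = 1 from (by decide : ∀ b : ZMod 3, b ≠ 0 → b * b = 1) b hb,
      ZMod.val_one, pow_one] at h2
    exact hind h2
  rw [hb, ZMod.val_zero, pow_zero, mul_one] at h0
  have ha : a = 0 := by
    have h2 : 3 ∣ a.val := (dvd_of_eq hox.symm).trans (orderOf_dvd_of_pow_eq_one h0)
    exact (ZMod.val_eq_zero a).mp (Nat.eq_zero_of_dvd_of_lt h2 (ZMod.val_lt a))
  have : u - v = 0 := by rw [h, ha, hb]; rfl
  exact sub_eq_zero.mp this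

/-- Coordinates for a simple group of order 360 on the projective line over the field with nine
elements. -/
structure NineModel (G : Type*) [Group G] where
  φ : G →* Equiv.Perm Pt
  inj : Function.Injective φ
  x : G
  y : G
  h : G
  x_eq : ⇑(φ x) = sh (1, 0)
  y_eq : ⇑(φ y) = sh (0, 1)
  h_eq : ∀ i : ℕ, ⇑(φ (h ^ i)) = rotPow i
  shift : ∀ u : V, ∃ n : G, ⇑(φ n) = sh u
  stab : ∀ n : G, φ n none = none → φ n (some 0) = some 0 → ∃ i : Fin 4, ⇑(φ n) = rotPow i
  gen : ∀ n : G, φ n none ≠ none → closure ({x, y, n} : Set G) = ⊤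
  swap : ∃ t : G, φ t none = some 0 ∧ φ t (some 0) = none

/-- A simple group of order 360 has coordinates. -/
theorem exists_nineModel (hc : Nat.card G = 360) : Nonempty (NineModel G) := by
  classical
  have hG := not_comm hc
  let P : Sylow 3 G := default
  have hPcard := card_sylow_three_subgroup hc P
  have hPc := comm_sylow_three hc P
  have hn := card_sylow_three hc
  obtain ⟨Q, hQ⟩ : ∃ Q : Sylow 3 G, Q ≠ P := by
    by_contra hcon
    simp only [not_exists, not_not] at hcon
    have : Nat.card (Sylow 3 G) = 1 := Nat.card_eq_one_iff_unique.mpr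
      ⟨⟨fun a b => (hcon a).trans (hcon b).symm⟩, ⟨P⟩⟩
    omega
  have hPP : ∀ x ∈ (P : Subgroup G), x • P = P := fun x hx =>
    Sylow.smul_eq_iff_mem_normalizer.mpr (le_normalizer hx)
  have hcomm : ∀ a ∈ (P : Subgroup G), ∀ b ∈ (P : Subgroup G), Commute a b := fun a ha b hb =>
    congrArg Subtype.val (hPc.is_comm.comm (⟨a, ha⟩ : (P : Subgroup G)) ⟨b, hb⟩)
  -- regularity of `P` away from `P`
  have hfree : ∀ a ∈ (P : Subgroup G), a • Q = Q → a = 1 := fun a ha haQ => by
    by_contra ha1
    exact hQ (eq_of_smul_eq hc P Q ha ha1 haQ)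
  have hreg : ∀ R : Sylow 3 G, R ≠ P → ∃ a ∈ (P : Subgroup G), a • Q = R := by
    intro R hR
    let f : ↥(P : Subgroup G) → {R : Sylow 3 G // R ≠ P} := fun a => ⟨a.1 • Q, fun h => hQ <| by
      have h' := congrArg (a.1⁻¹ • ·) h
      simp only [inv_smul_smul] at h'
      rw [h', hPP _ (inv_mem a.2)]⟩
    have hf : Function.Injective f := fun a b hab => by
      have h' : a.1 • Q = b.1 • Q := congrArg Subtype.val hab
      have := hfree (b.1⁻¹ * a.1) (mul_mem (inv_mem b.2) a.2)
        (by rw [mul_smul, h', inv_smul_smul])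
      exact Subtype.ext (inv_mul_eq_one.mp this).symm
    have hcard : Nat.card {R : Sylow 3 G // R ≠ P} = 9 := by
      let _ := Fintype.ofFinite (Sylow 3 G)
      rw [Nat.card_eq_fintype_card, Fintype.card_subtype_compl, Fintype.card_subtype_eq,
        ← Nat.card_eq_fintype_card, hn]
    obtain ⟨a, ha⟩ := ((Nat.bijective_iff_injective_and_card f).mpr
      ⟨hf, hPcard.trans hcard.symm⟩).2 ⟨R, hR⟩
    exact ⟨a.1, a.2, congrArg Subtype.val ha⟩
  -- the two-point stabilizer
  let H : Subgroup G := normalizer ((P : Subgroup G) : Set G) ⊓ MulAction.stabilizer G Q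
  have hNcard : Nat.card (normalizer ((P : Subgroup G) : Set G)) = 36 := by
    have := SmallGroups.card_sylow_mul_card_normalizer P
    rw [hn, hc] at this
    omega
  have hconjP : ∀ n ∈ H, ∀ a ∈ (P : Subgroup G), n * a * n⁻¹ ∈ (P : Subgroup G) :=
    fun n hn' a ha => (mem_normalizer_iff.mp (mem_inf.mp hn').1 a).mp ha
  have hfaith : ∀ n ∈ H, (∀ a ∈ (P : Subgroup G), n * a * n⁻¹ = a) → n = 1 := by
    intro n hn' hcent
    have hfix : ∀ R : Sylow 3 G, n • R = R := by
      intro R
      by_cases hR : R = P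
      · exact hR ▸ Sylow.smul_eq_iff_mem_normalizer.mpr (mem_inf.mp hn').1
      · obtain ⟨a, ha, rfl⟩ := hreg R hR
        rw [← mul_smul, mul_inv_eq_iff_eq_mul.mp (hcent a ha), mul_smul]
        exact congrArg _ (mem_inf.mp hn').2
    rcases SmallGroups.injective_or_trivial (MulAction.toPermHom G (Sylow 3 G)) with h | h
    · exact h ((Equiv.ext hfix).trans (map_one _).symm)
    · obtain ⟨x, hx⟩ := MulAction.exists_smul_eq G P Q
      exact absurd ((Equiv.congr_fun (h x) P).symm.trans hx).symm hQ
  have hHcard : Nat.card H = 4 := by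
    have hb : Function.Bijective (fun x : ↥(P : Subgroup G) × ↥H =>
        (⟨x.1.1 * x.2.1, mul_mem (le_normalizer x.1.2) (mem_inf.mp x.2.2).1⟩ :
          normalizer ((P : Subgroup G) : Set G))) := by
      constructor
      · rintro ⟨a, h⟩ ⟨b, h'⟩ he
        have he' : a.1 * h.1 = b.1 * h'.1 := congrArg Subtype.val he
        have h2 : a.1 • Q = b.1 • Q := by
          have := congrArg (fun z : G => z • Q) he'
          simp only [mul_smul] at this
          rwa [(mem_inf.mp h.2).2, (mem_inf.mp h'.2).2] at this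
        have := hfree (b.1⁻¹ * a.1) (mul_mem (inv_mem b.2) a.2) (by rw [mul_smul, h2, inv_smul_smul])
        obtain rfl : a = b := Subtype.ext (inv_mul_eq_one.mp this).symm
        exact Prod.ext rfl (Subtype.ext (mul_left_cancel he'))
      · rintro ⟨n, hnN⟩
        have hnQ : n • Q ≠ P := fun h => hQ <| by
          have h' := congrArg (n⁻¹ • ·) h
          simp only [inv_smul_smul] at h'
          rw [h', Sylow.smul_eq_iff_mem_normalizer.mpr (inv_mem hnN)]
        obtain ⟨a, ha, hae⟩ := hreg _ hnQ
        refine ⟨(⟨a, ha⟩, ⟨a⁻¹ * n, mem_inf.mpr ⟨mul_mem (le_normalizer (inv_mem ha)) hnN, ?_⟩⟩),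
          Subtype.ext (mul_inv_cancel_left _ _)⟩
        show (a⁻¹ * n) • Q = Q
        rw [mul_smul, ← hae, inv_smul_smul]
    have := Nat.card_eq_of_bijective _ hb
    rw [Nat.card_prod, hPcard, hNcard] at this
    omega
  -- the exponent of `P` is three
  have hexp : ∀ a ∈ (P : Subgroup G), a ^ 3 = 1 := by
    intro a ha
    by_contra ha3
    have hoa : orderOf (⟨a, ha⟩ : (P : Subgroup G)) = 3 ^ 2 := by
      refine orderOf_eq_prime_pow (fun h => ha3 ?_) (Subtype.ext ?_)
      · rw [pow_one] at h
        exact congrArg Subtype.val h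
      · have h9 := pow_card_eq_one' (x := (⟨a, ha⟩ : (P : Subgroup G)))
        rw [hPcard] at h9
        exact congrArg Subtype.val h9
    have hcyc : IsCyclic (P : Subgroup G) := isCyclic_of_orderOf_eq_card _ (by rw [hoa, hPcard]; norm_num)
    let ρ : H →* MulAut (P : Subgroup G) :=
      (P : Subgroup G).normalizerMonoidHom.comp (Subgroup.inclusion inf_le_left)
    have hρ : Function.Injective ρ := (injective_iff_map_eq_one ρ).mpr fun n hn1 => by
      refine Subtype.ext (hfaith n.1 n.2 fun b hb => ?_)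
      exact congrArg Subtype.val (MulEquiv.congr_fun hn1 ⟨b, hb⟩)
    have := Subgroup.card_dvd_of_injective ρ hρ
    rw [hHcard, hcyc.card_mulAut, hPcard, show (9 : ℕ) = 3 ^ 2 from rfl,
      Nat.totient_prime_pow Nat.prime_three (by norm_num)] at this
    norm_num at this
  -- coordinates from a basis
  let f : ∀ x y : G, Pt → Sylow 3 G := fun x y o => o.elim P fun v => basisMap x y v • Q
  have hcoord : ∀ x ∈ (P : Subgroup G), x ≠ 1 → ∀ y ∈ (P : Subgroup G), y ∉ zpowers x →
      Function.Bijective (f x y) ∧ ∀ a ∈ (P : Subgroup G), ∃ v, basisMap x y v = a := by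
    intro x hx hx1 y hy hind
    have hinj := basisMap_injective (hexp x hx) (hexp y hy) (hcomm x hx y hy) hx1 hind
    have hmem : ∀ v, basisMap x y v ∈ (P : Subgroup G) := fun v =>
      mul_mem (pow_mem hx _) (pow_mem hy _)
    have hsurj : ∀ a ∈ (P : Subgroup G), ∃ v, basisMap x y v = a := by
      intro a ha
      have hb : Function.Bijective (fun v => (⟨basisMap x y v, hmem v⟩ : (P : Subgroup G))) :=
        (Nat.bijective_iff_injective_and_card _).mpr
          ⟨fun u v h => hinj (congrArg Subtype.val h), by rw [hPcard]; simp⟩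
      obtain ⟨v, hv⟩ := hb.2 ⟨a, ha⟩
      exact ⟨v, congrArg Subtype.val hv⟩
    refine ⟨⟨?_, fun R => ?_⟩, hsurj⟩
    · rintro (_ | u) (_ | v) h
      · rfl
      · exfalso
        have h' := congrArg ((basisMap x y v)⁻¹ • ·) h
        simp only [f, Option.elim, inv_smul_smul, hPP _ (inv_mem (hmem v))] at h'
        exact hQ h'.symm
      · exfalso
        have h' := congrArg ((basisMap x y u)⁻¹ • ·) h
        simp only [f, Option.elim, inv_smul_smul, hPP _ (inv_mem (hmem u))] at h'
        exact hQ h'
      · have h' : basisMap x y u • Q = basisMap x y v • Q := h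
        have := hfree _ (mul_mem (inv_mem (hmem v)) (hmem u))
          (by rw [mul_smul, h', inv_smul_smul])
        rw [hinj (inv_mul_eq_one.mp this).symm]
    · by_cases hR : R = P
      · exact ⟨none, hR.symm⟩
      · obtain ⟨a, ha, rfl⟩ := hreg R hR
        obtain ⟨v, rfl⟩ := hsurj a ha
        exact ⟨some v, rfl⟩
  -- involutions of the stabilizer invert `P`
  have hinv : ∀ n ∈ H, n ≠ 1 → n * n = 1 → ∀ a ∈ (P : Subgroup G), n * a * n⁻¹ = a⁻¹ := by
    intro n hn' hn1 hn2 a ha
    have hninv : n⁻¹ = n := inv_eq_of_mul_eq_one_right hn2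
    have hnn : ∀ b, n * (n * b * n⁻¹) * n⁻¹ = b := fun b => by
      calc n * (n * b * n⁻¹) * n⁻¹ = (n * n) * b * (n * n)⁻¹ := by group
        _ = b := by rw [hn2]; group
    suffices hnofix : ∀ b ∈ (P : Subgroup G), n * b * n⁻¹ = b → b = 1 by
      have hbP := hconjP n hn' a ha
      have := hnofix (a * (n * a * n⁻¹)) (mul_mem ha hbP) (by
        rw [← conj_mul, hnn, (hcomm a ha _ hbP).eq])
      exact eq_inv_of_mul_eq_one_right this
    intro x hx hxfix
    by_contra hx1
    obtain ⟨y, hy, hyne, hyinv⟩ : ∃ y ∈ (P : Subgroup G), y ≠ 1 ∧ n * y * n⁻¹ = y⁻¹ := by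
      by_contra hcon
      refine hn1 (hfaith n hn' fun b hb => ?_)
      have hbP := hconjP n hn' b hb
      have h1 : b * (n * b * n⁻¹)⁻¹ = 1 := by
        by_contra h1
        refine hcon ⟨_, mul_mem hb (inv_mem hbP), h1, ?_⟩
        rw [← conj_mul, ← conj_inv, hnn, mul_inv_rev, inv_inv]
      exact (mul_inv_eq_one.mp h1).symm
    have hind : y ∉ zpowers x := by
      intro hmem
      obtain ⟨i, rfl⟩ := hmem
      simp only at hyinv hyne
      rw [← conj_zpow, hxfix] at hyinv
      apply hyne
      have h1 : (x ^ i) ^ 2 = 1 := by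
        rw [pow_two]
        nth_rewrite 2 [hyinv]
        exact mul_inv_cancel _
      have h2 := hexp _ hy
      rwa [pow_succ, h1, one_mul] at h2
    obtain ⟨hbij, hsurj⟩ := hcoord x hx hx1 y hy hind
    let e := Equiv.ofBijective _ hbij
    let φ : G →* Equiv.Perm Pt :=
      e.symm.permCongrHom.toMonoidHom.comp (MulAction.toPermHom G (Sylow 3 G))
    have hφn : φ n = reflectPerm := by
      refine Equiv.ext fun o => hbij.1 ((e.apply_symm_apply (n • e o)).trans ?_)
      cases o with
      | none => exact Sylow.smul_eq_iff_mem_normalizer.mpr (mem_inf.mp hn').1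
      | some v =>
        show n • basisMap x y v • Q = basisMap x y (v.1, -v.2) • Q
        have h1 : n * basisMap x y v * n⁻¹ = basisMap x y (v.1, -v.2) := by
          rw [basisMap, basisMap, ← conj_mul, ← conj_pow, ← conj_pow, hxfix, hyinv]
          congr 1
          rw [inv_pow, inv_eq_iff_mul_eq_one, ← pow_val_add3 (hexp y hy), add_neg_cancel,
            ZMod.val_zero, pow_zero]
        rw [← mul_smul, mul_inv_eq_iff_eq_mul.mp h1, mul_smul, (mem_inf.mp hn').2]
    rcases SmallGroups.injective_or_trivial (Equiv.Perm.sign.comp φ) with h | h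
    · exact hG ⟨⟨fun a b => h (by simp [mul_comm])⟩⟩
    · have := h n
      rw [MonoidHom.comp_apply, hφn, sign_reflectPerm] at this
      exact absurd this (by decide)
  -- an element of order four
  obtain ⟨h, hh, hh2⟩ : ∃ h ∈ H, h * h ≠ 1 := by
    by_contra hcon
    simp only [not_exists, not_and, not_not] at hcon
    let _ := Fintype.ofFinite H
    have h2 : Fintype.card H ≤ 2 := by
      by_contra hgt
      obtain ⟨a, b, c, hab, hac, hbc⟩ := Fintype.two_lt_card_iff.mp (Nat.lt_of_not_le hgt)
      have key : ∀ u v : H, u ≠ 1 → v ≠ 1 → u = v := by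
        intro u v hu hv
        have hu' : u.1 ≠ 1 := fun h => hu (Subtype.ext h)
        have hv' : v.1 ≠ 1 := fun h => hv (Subtype.ext h)
        have := hfaith (u.1 * v.1) (mul_mem u.2 v.2) fun z hz => by
          rw [mul_inv_rev, show u.1 * v.1 * z * (v.1⁻¹ * u.1⁻¹) = u.1 * (v.1 * z * v.1⁻¹) * u.1⁻¹ by
            group, hinv v v.2 hv' (hcon _ v.2) z hz, ← conj_inv,
            hinv u u.2 hu' (hcon _ u.2) z hz, inv_inv]
        refine Subtype.ext ?_
        rw [eq_inv_of_mul_eq_one_left this, inv_eq_of_mul_eq_one_right (hcon _ v.2)]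
      by_cases ha1 : a = 1
      · exact hbc (key b c (fun h => hab (ha1.trans h.symm)) (fun h => hac (ha1.trans h.symm)))
      · by_cases hb1 : b = 1
        · exact hac (key a c ha1 (fun h => hbc (hb1.trans h.symm)))
        · exact hab (key a b ha1 hb1)
    rw [← Nat.card_eq_fintype_card, hHcard] at h2
    omega
  have hh4 : h ^ 4 = 1 := by
    have := pow_card_eq_one' (x := (⟨h, hh⟩ : H))
    rw [hHcard] at this
    exact congrArg Subtype.val this
  have hsq : ∀ a ∈ (P : Subgroup G), h * (h * a * h⁻¹) * h⁻¹ = a⁻¹ := fun a ha => by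
    rw [← hinv (h * h) (mul_mem hh hh) hh2
      (by rw [← hh4]; simp only [pow_succ, pow_zero, one_mul, mul_assoc]) a ha]
    group
  have hzp : ∀ n ∈ H, ∃ i : ℕ, i < 4 ∧ h ^ i = n := by
    intro n hn'
    have ho : orderOf h = 2 ^ 2 :=
      orderOf_eq_prime_pow (n := 1) (by rwa [pow_one, pow_two]) (by norm_num; exact hh4)
    have heq : zpowers h = H :=
      eq_of_le_of_card_ge (zpowers_le.mpr hh) (by rw [Nat.card_zpowers, ho, hHcard]; norm_num)
    obtain ⟨i, hi⟩ := mem_powers_iff_mem_zpowers.mpr (heq.ge hn')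
    exact ⟨i % 4, Nat.mod_lt _ (by norm_num), (pow_eq_pow_mod i hh4).symm.trans hi⟩
  -- the coordinates
  obtain ⟨x, hx, hx1⟩ : ∃ x ∈ (P : Subgroup G), x ≠ 1 := by
    have hne : (P : Subgroup G) ≠ ⊥ := fun h => by rw [h, card_bot] at hPcard; omega
    obtain ⟨⟨x, hx⟩, hx1⟩ := (Subgroup.ne_bot_iff_exists_ne_one.mp hne)
    exact ⟨x, hx, fun h => hx1 (Subtype.ext h)⟩
  obtain ⟨y, hy, hydef⟩ : ∃ y ∈ (P : Subgroup G), h * x * h⁻¹ = y := ⟨_, hconjP h hh x hx, rfl⟩
  have hyinv : h * y * h⁻¹ = x⁻¹ := by rw [← hydef]; exact hsq x hx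
  have hind : y ∉ zpowers x := by
    intro hmem
    obtain ⟨i, hi⟩ := mem_powers_iff_mem_zpowers.mpr hmem
    have hi' : x ^ i = y := hi
    rw [← hi', ← conj_pow, hydef, ← hi', ← pow_mul, eq_comm, inv_eq_iff_mul_eq_one, ← pow_succ'] at hyinv
    have h3 : 3 ∣ i * i + 1 := (orderOf_eq_prime (hexp x hx) hx1) ▸ orderOf_dvd_of_pow_eq_one hyinv
    have : i % 3 = 0 ∨ i % 3 = 1 ∨ i % 3 = 2 := by omega
    obtain ⟨q, hq⟩ : ∃ q, i = 3 * q + i % 3 := ⟨i / 3, (Nat.div_add_mod i 3).symm⟩
    rcases this with h0 | h0 | h0 <;> rw [h0] at hq <;> subst hq <;> ring_nf at h3 <;> omega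
  obtain ⟨hbij, hsurj⟩ := hcoord x hx hx1 y hy hind
  let e := Equiv.ofBijective _ hbij
  let φ : G →* Equiv.Perm Pt :=
    e.symm.permCongrHom.toMonoidHom.comp (MulAction.toPermHom G (Sylow 3 G))
  have hφ : ∀ (n : G) o, f x y (φ n o) = n • f x y o := fun n o => e.apply_symm_apply (n • e o)
  have hinj : Function.Injective φ := by
    rcases SmallGroups.injective_or_trivial φ with h | h
    · exact h
    · exfalso
      obtain ⟨a, ha⟩ := MulAction.exists_smul_eq G P Q
      have h1 := hφ a none
      rw [h a] at h1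
      exact hQ (h1.trans ha).symm
  have hshift : ∀ u : V, ⇑(φ (basisMap x y u)) = sh u := by
    intro u
    funext o
    refine hbij.1 ((hφ _ o).trans ?_)
    cases o with
    | none => exact hPP _ (mul_mem (pow_mem hx _) (pow_mem hy _))
    | some v =>
      show basisMap x y u • basisMap x y v • Q = basisMap x y (v + u) • Q
      rw [← mul_smul, ← basisMap_add (hexp x hx) (hexp y hy) (hcomm x hx y hy), add_comm]
  have hrot : ⇑(φ h) = Option.map rot := by
    funext o
    refine hbij.1 ((hφ _ o).trans ?_)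
    cases o with
    | none => exact Sylow.smul_eq_iff_mem_normalizer.mpr (mem_inf.mp hh).1
    | some v =>
      show h • basisMap x y v • Q = basisMap x y (rot v) • Q
      have h1 : h * basisMap x y v * h⁻¹ = basisMap x y (rot v) := by
        rw [basisMap, basisMap, ← conj_mul, ← conj_pow, ← conj_pow, hydef, hyinv,
          show rot v = (-v.2, v.1) from rfl]
        rw [(hcomm _ (pow_mem hy _) _ (pow_mem (inv_mem hx) _)).eq]
        congr 1
        rw [inv_pow, inv_eq_iff_mul_eq_one, ← pow_val_add3 (hexp x hx), add_neg_cancel,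
          ZMod.val_zero, pow_zero]
      rw [← mul_smul, mul_inv_eq_iff_eq_mul.mp h1, mul_smul, (mem_inf.mp hh).2]
  have hrotpow : ∀ i : ℕ, ⇑(φ (h ^ i)) = rotPow i := by
    intro i
    induction i with
    | zero => funext o; cases o <;> simp [rotPow]
    | succ i ih =>
      funext o
      rw [pow_succ', map_mul, Equiv.Perm.mul_apply, ih, hrot, rotPow, rotPow,
        Function.iterate_succ', Option.map_map]
  have hstab : ∀ n : G, φ n none = none → φ n (some 0) = some 0 →
      ∃ i : Fin 4, ⇑(φ n) = rotPow i := by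
    intro n h1 h2
    have hnH : n ∈ H := by
      refine mem_inf.mpr ⟨Sylow.smul_eq_iff_mem_normalizer.mp ?_, ?_⟩
      · have := hφ n none; rw [h1] at this; exact this.symm
      · have := hφ n (some 0); rw [h2] at this
        simpa [f, basisMap, ZMod.val_zero] using this.symm
    obtain ⟨i, hi, rfl⟩ := hzp n hnH
    exact ⟨⟨i, hi⟩, hrotpow i⟩
  have hx' : ⇑(φ x) = sh (1, 0) := by
    have := hshift (1, 0)
    rwa [show basisMap x y (1, 0) = x by simp [basisMap, ZMod.val_one]] at this
  have hy' : ⇑(φ y) = sh (0, 1) := by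
    have := hshift (0, 1)
    rwa [show basisMap x y (0, 1) = y by simp [basisMap, ZMod.val_one]] at this
  refine ⟨⟨φ, hinj, x, y, h, hx', hy', hrotpow, fun u => ⟨_, hshift u⟩, hstab, ?_, ?_⟩⟩
  · intro n hn'
    let K : Subgroup G := closure {x, y, n}
    have hxK : x ∈ K := subset_closure (by simp)
    have hyK : y ∈ K := subset_closure (by simp)
    have hnK : n ∈ K := subset_closure (by simp)
    have hPK : ∀ u, basisMap x y u ∈ K := fun u => mul_mem (pow_mem hxK _) (pow_mem hyK _)
    have horb : ∀ o, ∃ g ∈ K, φ g none = o := by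
      intro o
      cases o with
      | none => exact ⟨1, one_mem _, by simp⟩
      | some v =>
        obtain ⟨w, hw⟩ : ∃ w, φ n none = some w := Option.ne_none_iff_exists'.mp hn'
        refine ⟨basisMap x y (v - w) * n, mul_mem (hPK _) hnK, ?_⟩
        rw [map_mul, Equiv.Perm.mul_apply, hw, hshift]
        simp [sh]
    have hall : ∀ R : Sylow 3 G, ∀ c ∈ (R : Subgroup G), c ∈ K := by
      intro R c hc'
      obtain ⟨o, rfl⟩ := hbij.2 R
      obtain ⟨g, hg, hgo⟩ := horb o
      have hR : g • P = f x y o := by rw [← hgo, hφ]; rfl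
      rw [← hR] at hc'
      obtain ⟨z, hz, rfl⟩ := hc'
      obtain ⟨v, rfl⟩ := hsurj z hz
      exact mul_mem (mul_mem hg (hPK v)) (inv_mem hg)
    have hnorm : (⨆ R : Sylow 3 G, (R : Subgroup G)).Normal := by
      refine ⟨fun z hz g => ?_⟩
      refine (?_ : (⨆ R : Sylow 3 G, (R : Subgroup G)) ≤ Subgroup.comap (MulAut.conj g).toMonoidHom
        (⨆ R : Sylow 3 G, (R : Subgroup G))) hz
      refine iSup_le fun R z hz => ?_
      exact le_iSup (fun R : Sylow 3 G => (R : Subgroup G)) (g • R) ⟨z, hz, rfl⟩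
    refine top_le_iff.mp ((SmallGroups.eq_top_of_normal hnorm fun h0 => ?_).ge.trans
      (iSup_le hall))
    exact hx1 (mem_bot.mp (h0 ▸ (le_iSup (fun R : Sylow 3 G => (R : Subgroup G)) P) hx))
  · obtain ⟨n₀, hn₀⟩ := MulAction.exists_smul_eq G P Q
    have hn₀0 : φ n₀ none = some 0 :=
      hbij.1 ((hφ n₀ none).trans (by simpa [f, basisMap, ZMod.val_zero] using hn₀))
    obtain ⟨i₀, hi₀⟩ : ∃ i, φ n₀ (some i) = none := by
      rcases hcs : (φ n₀).symm none with _ | i
      · have := congrArg (φ n₀) hcs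
        rw [Equiv.apply_symm_apply, hn₀0] at this
        exact absurd this.symm (by simp)
      · exact ⟨i, by rw [← hcs, Equiv.apply_symm_apply]⟩
    refine ⟨n₀ * basisMap x y i₀, ?_, ?_⟩
    · rw [map_mul, Equiv.Perm.mul_apply, hshift]; exact hn₀0
    · rw [map_mul, Equiv.Perm.mul_apply, hshift]
      show φ n₀ (some (0 + i₀)) = none
      rw [zero_add]; exact hi₀

/-- Every simple group of order 360 is the model group. -/
theorem nonempty_equiv_model (hc : Nat.card G = 360) : Nonempty (G ≃* model) := by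
  obtain ⟨M⟩ := exists_nineModel hc
  obtain ⟨φ, hinj, x, y, h, hx', hy', hrotpow, hshift, hstab, hgen, t, ht0, ht1⟩ := M
  have hrot : ⇑(φ h) = Option.map rot := by
    have := hrotpow 1
    rwa [pow_one] at this
  have hti0 : (φ t)⁻¹ none = some 0 := (φ t).symm_apply_eq.mpr ht1.symm
  have hti1 : (φ t)⁻¹ (some 0) = none := (φ t).symm_apply_eq.mpr ht0.symm
  obtain ⟨j, hj⟩ := hstab (t * h * t⁻¹)
    (by
      simp only [map_mul, map_inv, Equiv.Perm.mul_apply, hti0, hrot, Option.map_some]
      rw [show rot (0 : V) = 0 from rfl, ht1])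
    (by simp only [map_mul, map_inv, Equiv.Perm.mul_apply, hti1, hrot, Option.map_none, ht0])
  let τ : Pt → Pt := φ t
  have hconj : ∀ o, τ (Option.map rot o) = rotPow j (τ o) := fun o => by
    have h1 := congrFun hj (τ o)
    rw [map_mul, map_mul, map_inv, Equiv.Perm.mul_apply, Equiv.Perm.mul_apply,
      show (φ t)⁻¹ (τ o) = o from (φ t).symm_apply_apply o, hrot] at h1
    exact h1
  have hsome : ∀ v : V, v ≠ (0, 0) → ∃ w, τ (some v) = some w ∧ w ≠ (0, 0) := by
    intro v hv
    rcases hv' : τ (some v) with _ | w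
    · exact absurd (Option.some_injective _ ((φ t).injective (hv'.trans ht1.symm))) hv
    · exact ⟨w, rfl, fun h0 => absurd
        ((φ t).injective ((hv'.trans (congrArg some h0)).trans ht0.symm)) (Option.some_ne_none v)⟩
  obtain ⟨a, ha, ha0⟩ := hsome (1, 0) (by decide)
  obtain ⟨b, hb, hb0⟩ := hsome (1, 1) (by decide)
  have hiter : ∀ v w : V, τ (some v) = some w → ∀ n : ℕ,
      τ (some (rot^[n] v)) = some (rot^[j.val * n] w) := by
    intro v w hvw n
    induction n with
    | zero => simpa using hvw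
    | succ n ih =>
      have := hconj (some (rot^[n] v))
      rw [ih, rotPow, Option.map_some, Option.map_some, ← Function.iterate_succ_apply' rot n v,
        ← Function.iterate_add_apply] at this
      rw [this]
      congr 2
      ring
  have hτ : τ = cand a b j := by
    funext o
    cases o with
    | none => exact ht0
    | some v =>
      by_cases hv : v = (0, 0)
      · subst hv
        simp only [cand, if_true]
        exact ht1
      simp only [cand, if_neg hv]
      split
      · next n hn' =>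
        have := List.find?_some hn'
        rw [beq_iff_eq] at this
        rw [← this]
        exact hiter _ a ha n
      · next hnone =>
        split
        · next n hn' =>
          have := List.find?_some hn'
          rw [beq_iff_eq] at this
          rw [← this]
          exact hiter _ b hb n
        · next hnone' =>
          exfalso
          obtain ⟨n, hn' | hn'⟩ := cover v hv
          · exact List.find?_eq_none.mp hnone n.val (List.mem_range.mpr n.2) (beq_iff_eq.mpr hn')
          · exact List.find?_eq_none.mp hnone' n.val (List.mem_range.mpr n.2) (beq_iff_eq.mpr hn')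
  have hrel : Rel τ a := by
    rcases hyv : (φ t).symm (some (-1, 0)) with _ | v
    · have := congrArg (φ t) hyv
      rw [Equiv.apply_symm_apply, ht0] at this
      exact absurd (Option.some_injective _ this) (by decide)
    have hv' : τ (some v) = some (-1, 0) := by
      show (φ t) (some v) = _
      rw [← hyv, Equiv.apply_symm_apply]
    obtain ⟨u₁, hu₁⟩ := hshift (-a)
    obtain ⟨u₂, hu₂⟩ := hshift (1, 0)
    obtain ⟨u₃, hu₃⟩ := hshift v
    obtain ⟨s, hs⟩ := hstab (u₁ * t * u₂ * t * u₃ * t⁻¹)
      (by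
        simp only [map_mul, map_inv, Equiv.Perm.mul_apply, hti0, hu₁, hu₂, hu₃, sh, Option.map_some,
          zero_add]
        rw [show φ t (some v) = some (-1, 0) from hv', Option.map_some,
          show ((-1, 0) : V) + (1, 0) = 0 by decide, ht1, Option.map_none])
      (by
        simp only [map_mul, map_inv, Equiv.Perm.mul_apply, hti1, hu₁, hu₂, hu₃, sh, Option.map_none, ht0,
          Option.map_some, zero_add]
        rw [show φ t (some (1, 0)) = some a from ha, Option.map_some, add_neg_cancel])
    refine ⟨v, hv', s, fun o => ?_⟩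
    have h1 := congrFun hs (τ o)
    simp only [map_mul, map_inv, Equiv.Perm.mul_apply, hu₁, hu₂, hu₃] at h1
    rw [show (φ t)⁻¹ (τ o) = o from (φ t).symm_apply_apply o] at h1
    exact h1
  obtain ⟨s, hs⟩ := check a ha0 b hb0 j (hτ ▸ hrel)
  have hts : ∀ o, φ t o = φ (h ^ s.val) (w0 o) := fun o => by
    rw [hrotpow, ← hs, ← hτ]
  have hKtop : closure ({x, y, t} : Set G) = ⊤ := hgen t (by rw [ht0]; exact Option.some_ne_none _)
  have hφx : φ x = shPerm (1, 0) := DFunLike.coe_injective hx'
  have hφy : φ y = shPerm (0, 1) := DFunLike.coe_injective hy'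
  have hφh : φ h = rotPerm := DFunLike.coe_injective hrot
  have hφt : φ t = φ (h ^ s.val) * w0Perm := Equiv.ext hts
  have hR : rotPerm ∈ φ.range := ⟨h, hφh⟩
  have hrange : φ.range = model := by
    refine le_antisymm ?_ ((closure_le _).mpr ?_)
    · rw [MonoidHom.range_eq_map, ← hKtop, MonoidHom.map_closure, closure_le]
      rintro - ⟨z, hz, rfl⟩
      rcases hz with rfl | rfl | rfl
      · rw [hφx]; exact subset_closure (by simp)
      · rw [hφy]; exact subset_closure (by simp)
      · rw [hφt, map_pow, hφh]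
        exact mul_mem (pow_mem (subset_closure (by simp)) _) (subset_closure (by simp))
    · rintro z (rfl | rfl | rfl | rfl)
      · exact ⟨x, hφx⟩
      · exact ⟨y, hφy⟩
      · exact hR
      · exact ⟨(h ^ s.val)⁻¹ * t, by rw [map_mul, map_inv, hφt, inv_mul_cancel_left]⟩
  exact ⟨(MonoidHom.ofInjective hinj).trans (MulEquiv.subgroupCongr hrange)⟩

end Cfsg.Agent.SmallPSL.Nine
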