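import Cfsg.Agent.SmallPSL.Checks

/-!
Simple groups of orders 168, 660 and 1092 are `PSL₂` of the prime field.
-/

namespace Cfsg.Agent.SmallPSL

theorem fact_seven : Fact (Nat.Prime 7) := ⟨by norm_num⟩

theorem fact_eleven : Fact (Nat.Prime 11) := ⟨by norm_num⟩

theorem fact_thirteen : Fact (Nat.Prime 13) := ⟨by norm_num⟩

attribute [local instance] fact_seven fact_eleven fact_thirteen

theorem equiv_of_check {p : ℕ} [Fact p.Prime] {G : Type*} [Group G] [Finite G] [IsSimpleGroup G]
    (hp5 : 5 ≤ p) (k : ℕ) (hk : p - 1 = 2 * k)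
    (hroots : Nat.card {s : ZMod p // s ^ k = 1} = k)
    (hnum : ∀ d ∈ (k * (p + 1)).divisors, d % p = 1 → 1 < d → d = p + 1)
    (hcard : Nat.card G = p * k * (p + 1)) (h ε ε' : ZMod p) (hh : h ^ k = 1) (hε : ε * ε' = 1)
    (hlog : ∀ x : ZMod p, x ≠ 0 → ∃ i < k, x = h ^ i ∨ x = ε * h ^ i)
    (hcheck : SwapCheck p k h ε') (hcard2 : 2 * Nat.card G = p * (p ^ 2 - 1))
    {F : Type*} [Field F] [Fintype F] (hF : Fintype.card F = p) :
    Nonempty (G ≃* Matrix.ProjectiveSpecialLinearGroup (Fin 2) F) := by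
  have hk0 : 0 < k := by omega
  have hG : ¬ IsMulCommutative G := SmallGroups.not_isMulCommutative <| by
    rw [hcard, mul_assoc]
    exact Nat.not_prime_mul (by omega) (by nlinarith)
  have hmem := SmallGroups.card_sylow_mem hG (p := p) (a := 0) (m := k * (p + 1))
    (by rw [hcard, zero_add, pow_one, mul_assoc]) (by positivity)
  rw [Finset.mem_filter] at hmem
  obtain ⟨M⟩ := exists_lineModel hG (by omega) k hk hroots hcard (hnum _ hmem.1 hmem.2.1 hmem.2.2)
  exact equiv_psl_of_lineModel hG hp5 M h ε ε' hh hε hlog hcheck hcard2 hF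

theorem equiv_seven {G : Type*} [Group G] [Finite G] [IsSimpleGroup G] (h : Nat.card G = 168)
    {F : Type*} [Field F] [Fintype F] (hF : Fintype.card F = 7) :
    Nonempty (G ≃* Matrix.ProjectiveSpecialLinearGroup (Fin 2) F) :=
  equiv_of_check (p := 7) (by norm_num) 3 (by norm_num)
    (by rw [Nat.card_eq_fintype_card]; decide) (by decide) (by rw [h]) 2 3 5 (by decide) (by decide)
    (by decide) check_seven (by rw [h]; norm_num) hF

theorem equiv_eleven {G : Type*} [Group G] [Finite G] [IsSimpleGroup G] (h : Nat.card G = 660)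
    {F : Type*} [Field F] [Fintype F] (hF : Fintype.card F = 11) :
    Nonempty (G ≃* Matrix.ProjectiveSpecialLinearGroup (Fin 2) F) :=
  equiv_of_check (p := 11) (by norm_num) 5 (by norm_num)
    (by rw [Nat.card_eq_fintype_card]; decide) (by decide) (by rw [h]) 4 2 6 (by decide) (by decide)
    (by decide) check_eleven (by rw [h]; norm_num) hF

theorem equiv_thirteen {G : Type*} [Group G] [Finite G] [IsSimpleGroup G] (h : Nat.card G = 1092)
    {F : Type*} [Field F] [Fintype F] (hF : Fintype.card F = 13) :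
    Nonempty (G ≃* Matrix.ProjectiveSpecialLinearGroup (Fin 2) F) :=
  equiv_of_check (p := 13) (by norm_num) 6 (by norm_num)
    (by rw [Nat.card_eq_fintype_card]; decide) (by decide) (by rw [h]) 4 2 7 (by decide) (by decide)
    (by decide) check_thirteen (by rw [h]; norm_num) hF

end Cfsg.Agent.SmallPSL
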