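import Cfsg.Agent.Linear.Orders
import Cfsg.Agent.Linear.Transvection
import Mathlib.Topology.Compactification.OnePoint.ProjectiveLine
import Mathlib.RingTheory.ZMod

/-!
The action of `PSL₂(𝔽_p)` on the projective line, and recognition of a permutation group generated
by a translation and an inversion `x ↦ a / x`.
-/

namespace Cfsg.Agent.SmallPSL

open Matrix Subgroup

variable {p : ℕ}

/-- The translation `x ↦ x + u` of the projective line. -/
def shiftP (u : ZMod p) : Option (ZMod p) → Option (ZMod p)
  | none => none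
  | some x => some (x + u)

/-- The scaling `x ↦ s x` of the projective line. -/
def scaleP (s : ZMod p) : Option (ZMod p) → Option (ZMod p)
  | none => none
  | some x => some (s * x)

/-- The map `x ↦ a / x` of the projective line. -/
def invP [Fact p.Prime] (a : ZMod p) : Option (ZMod p) → Option (ZMod p)
  | none => some 0
  | some x => if x = 0 then none else some (a / x)

/-- Isomorphism of special linear groups induced by a ring isomorphism. -/
def slCongr {R S : Type*} [CommRing R] [CommRing S] (e : R ≃+* S) :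
    Matrix.SpecialLinearGroup (Fin 2) R ≃* Matrix.SpecialLinearGroup (Fin 2) S where
  toFun := Matrix.SpecialLinearGroup.map (e : R →+* S)
  invFun := Matrix.SpecialLinearGroup.map (e.symm : S →+* R)
  left_inv g := by ext i j; simp
  right_inv g := by ext i j; simp
  map_mul' := map_mul _

/-- `PSL₂` only depends on the field up to isomorphism. -/
theorem psl_congr {R S : Type*} [CommRing R] [CommRing S] (e : R ≃+* S) :
    Nonempty (ProjectiveSpecialLinearGroup (Fin 2) R ≃* ProjectiveSpecialLinearGroup (Fin 2) S) := by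
  refine ⟨QuotientGroup.congr _ _ (slCongr e) ?_⟩
  ext x
  constructor
  · rintro ⟨y, hy, rfl⟩
    refine Subgroup.mem_center_iff.mpr fun z => ?_
    obtain ⟨w, rfl⟩ := (slCongr e).surjective z
    exact (map_mul (slCongr e) w y).symm.trans
      ((congrArg _ (Subgroup.mem_center_iff.mp hy w)).trans (map_mul (slCongr e) y w))
  · intro hx
    obtain ⟨y, rfl⟩ := (slCongr e).surjective x
    refine ⟨y, Subgroup.mem_center_iff.mpr fun w => (slCongr e).injective ?_, rfl⟩
    rw [map_mul, map_mul]
    exact Subgroup.mem_center_iff.mp hx _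

variable [Fact p.Prime]

/-- The action of `SL₂(𝔽_p)` on the projective line. -/
noncomputable def slPerm : Matrix.SpecialLinearGroup (Fin 2) (ZMod p) →* Equiv.Perm (Option (ZMod p)) :=
  (MulAction.toPermHom (GL (Fin 2) (ZMod p)) (OnePoint (ZMod p))).comp Matrix.SpecialLinearGroup.toGL

theorem slPerm_none (A : Matrix.SpecialLinearGroup (Fin 2) (ZMod p)) :
    slPerm A none = if A 1 0 = 0 then none else some (A 0 0 / A 1 0) :=
  OnePoint.smul_infty_eq_ite (Matrix.SpecialLinearGroup.toGL A)

theorem slPerm_some (A : Matrix.SpecialLinearGroup (Fin 2) (ZMod p)) (x : ZMod p) :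
    slPerm A (some x) = if A 1 0 * x + A 1 1 = 0 then none
      else some ((A 0 0 * x + A 0 1) / (A 1 0 * x + A 1 1)) :=
  OnePoint.smul_some_eq_ite (g := Matrix.SpecialLinearGroup.toGL A) (k := x)

theorem center_le_ker_slPerm :
    center (Matrix.SpecialLinearGroup (Fin 2) (ZMod p)) ≤ (slPerm (p := p)).ker := by
  intro A hA
  obtain ⟨r, hr, hA'⟩ := Matrix.SpecialLinearGroup.mem_center_iff.mp hA
  have hr0 : r ≠ 0 := by rintro rfl; simp at hr
  have h00 : A 0 0 = r := by rw [← hA']; simp
  have h01 : A 0 1 = 0 := by rw [← hA']; simp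
  have h10 : A 1 0 = 0 := by rw [← hA']; simp
  have h11 : A 1 1 = r := by rw [← hA']; simp
  refine MonoidHom.mem_ker.mpr (Equiv.ext fun o => ?_)
  cases o with
  | none =>
    rw [slPerm_none, h10, if_pos rfl]
    rfl
  | some x =>
    rw [slPerm_some, h00, h01, h10, h11, zero_mul, zero_add, if_neg hr0, add_zero,
      mul_div_cancel_left₀ _ hr0]
    rfl

/-- The action of `PSL₂(𝔽_p)` on the projective line. -/
noncomputable def pslPerm :
    ProjectiveSpecialLinearGroup (Fin 2) (ZMod p) →* Equiv.Perm (Option (ZMod p)) :=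
  QuotientGroup.lift _ slPerm center_le_ker_slPerm

theorem exists_slPerm_shift : ∃ A, ⇑(slPerm (p := p) A) = shiftP (1 : ZMod p) := by
  refine ⟨⟨!![1, 1; 0, 1], by simp [Matrix.det_fin_two]⟩, funext fun o => ?_⟩
  cases o with
  | none => refine (slPerm_none _).trans ?_; simp [shiftP]
  | some x => refine (slPerm_some _ x).trans ?_; simp [shiftP]

theorem exists_slPerm_inv (r : ZMod p) (hr : r ≠ 0) :
    ∃ A, ⇑(slPerm (p := p) A) = invP (-(r * r)) := by
  refine ⟨⟨!![0, -r; r⁻¹, 0], by simp [Matrix.det_fin_two, hr]⟩, funext fun o => ?_⟩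
  cases o with
  | none => refine (slPerm_none _).trans ?_; simp [invP, hr]
  | some x =>
    refine (slPerm_some _ x).trans ?_
    by_cases hx : x = 0
    · simp [invP, hx]
    · simp [invP, hx, hr]
      field_simp

theorem pslPerm_injective (hp : 5 ≤ p) : Function.Injective (pslPerm (p := p)) := by
  have : IsSimpleGroup (ProjectiveSpecialLinearGroup (Fin 2) (ZMod p)) :=
    Linear.isSimpleGroup_PSL_fin 2 le_rfl fun _ => by rw [Nat.card_zmod]; omega
  rcases (MonoidHom.normal_ker (pslPerm (p := p))).eq_bot_or_eq_top with h | h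
  · exact (MonoidHom.ker_eq_bot_iff _).mp h
  · exfalso
    obtain ⟨A, hA⟩ := exists_slPerm_shift (p := p)
    have h1 : pslPerm (QuotientGroup.mk A) = 1 := MonoidHom.mem_ker.mp (h ▸ mem_top _)
    have h2 : slPerm A (some 0) = some 0 := Equiv.congr_fun h1 (some 0)
    rw [hA] at h2
    simp [shiftP] at h2

/-- A group faithful on the projective line, generated by a translation and `x ↦ a / x` with `-a`
a square, of the order of `PSL₂(𝔽_p)`, is `PSL₂(𝔽_p)`. -/
theorem equiv_psl_of_generators (hp : 5 ≤ p) {G : Type*} [Group G] [Finite G]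
    (φ : G →* Equiv.Perm (Option (ZMod p))) (hφ : Function.Injective φ) (g t : G)
    (hgen : closure ({g, t} : Set G) = ⊤) (hg : ⇑(φ g) = shiftP (1 : ZMod p)) (r : ZMod p)
    (hr : r ≠ 0) (ht : ⇑(φ t) = invP (-(r * r)))
    (hcard : 2 * Nat.card G = p * (p ^ 2 - 1)) {F : Type*} [Field F] [Fintype F]
    (hF : Fintype.card F = p) :
    Nonempty (G ≃* ProjectiveSpecialLinearGroup (Fin 2) F) := by
  have hle : φ.range ≤ (pslPerm (p := p)).range := by
    rw [MonoidHom.range_eq_map, ← hgen, MonoidHom.map_closure, closure_le]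
    rintro - ⟨x, hx, rfl⟩
    obtain ⟨A, hA⟩ : ∃ A, slPerm (p := p) A = φ x := by
      rcases hx with rfl | rfl
      · obtain ⟨A, hA⟩ := exists_slPerm_shift (p := p)
        exact ⟨A, DFunLike.coe_injective (hA.trans hg.symm)⟩
      · obtain ⟨A, hA⟩ := exists_slPerm_inv r hr
        exact ⟨A, DFunLike.coe_injective (hA.trans ht.symm)⟩
    exact ⟨QuotientGroup.mk A, hA⟩
  have hpsl : 2 * Nat.card (ProjectiveSpecialLinearGroup (Fin 2) (ZMod p)) = p * (p ^ 2 - 1) := by
    have h := Linear.card_PSL_two_mul (F := ZMod p)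
    obtain ⟨m, rfl⟩ := (Fact.out : p.Prime).odd_of_ne_two (by omega)
    rw [ZMod.card, show Nat.gcd 2 (2 * m + 1 - 1) = 2 from Nat.gcd_eq_left ⟨m, by omega⟩] at h
    rw [h]
    have : (2 * m + 1) ^ 2 - 1 = (2 * m + 1 - 1) * (2 * m + 1 + 1) := by
      rw [show 1 = 1 ^ 2 from rfl, Nat.sq_sub_sq]
      simp [mul_comm]
    rw [this, mul_assoc]
  have heq : φ.range = (pslPerm (p := p)).range := by
    refine eq_of_le_of_card_ge hle ?_
    rw [← Nat.card_congr (MonoidHom.ofInjective hφ).toEquiv,
      ← Nat.card_congr (MonoidHom.ofInjective (pslPerm_injective hp)).toEquiv]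
    omega
  obtain ⟨e⟩ := psl_congr (ZMod.ringEquivOfPrime F (Fact.out : p.Prime) hF)
  exact ⟨(MonoidHom.ofInjective hφ).trans ((MulEquiv.subgroupCongr heq).trans
    ((MonoidHom.ofInjective (pslPerm_injective hp)).symm.trans e))⟩

end Cfsg.Agent.SmallPSL
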