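import Cfsg.Agent.SmallPSL.Projective
import Cfsg.Agent.SmallGroups.Basic

/-!
A simple group of order `p (p² - 1) / 2` with `p + 1` Sylow `p`-subgroups, in coordinates on the
projective line.
-/

namespace Cfsg.Agent.SmallPSL

open Subgroup

variable {p : ℕ} [hp : Fact p.Prime]

theorem pow_val_add {G : Type*} [Group G] {g : G} (hg : orderOf g = p) (i j : ZMod p) :
    g ^ (i + j).val = g ^ i.val * g ^ j.val := by
  rw [ZMod.val_add, ← pow_add]
  conv_rhs => rw [← pow_mod_orderOf, hg]

theorem pow_val_mul {G : Type*} [Group G] {g : G} (hg : orderOf g = p) (i j : ZMod p) :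
    g ^ (i * j).val = (g ^ i.val) ^ j.val := by
  rw [ZMod.val_mul, ← pow_mul]
  conv_rhs => rw [← pow_mod_orderOf, hg]

/-- The coordinates: an injective action on the projective line in which some `g` is the unit
translation, the elements fixing `∞` and `0` are exactly the scalings by the `k`-th roots of unity,
`g` and any element moving `∞` generate, and some element swaps `∞` and `0`. -/
structure LineModel (p k : ℕ) (G : Type*) [Group G] where
  φ : G →* Equiv.Perm (Option (ZMod p))
  inj : Function.Injective φ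
  g : G
  g_eq : ⇑(φ g) = shiftP (1 : ZMod p)
  stab : ∀ n : G, φ n none = none → φ n (some 0) = some 0 →
    ∃ s : ZMod p, s ^ k = 1 ∧ ⇑(φ n) = scaleP s
  scale : ∀ s : ZMod p, s ^ k = 1 → ∃ n : G, ⇑(φ n) = scaleP s
  gen : ∀ n : G, φ n none ≠ none → closure ({g, n} : Set G) = ⊤
  swap : ∃ t : G, φ t none = some 0 ∧ φ t (some 0) = none

theorem exists_lineModel {G : Type*} [Group G] [Finite G] [IsSimpleGroup G]
    (hG : ¬ IsMulCommutative G) (hp2 : p ≠ 2) (k : ℕ) (hk : p - 1 = 2 * k)
    (hroots : Nat.card {s : ZMod p // s ^ k = 1} = k)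
    (hcard : Nat.card G = p * k * (p + 1)) (hn : Nat.card (Sylow p G) = p + 1) :
    Nonempty (LineModel p k G) := by
  classical
  let P : Sylow p G := default
  have hk1 : k < p := by have := hp.out.two_le; omega
  have hk0 : 0 < k := by have := hp.out.two_le; omega
  have hPcard : Nat.card (P : Subgroup G) = p := by
    refine (SmallGroups.card_sylow_subgroup (a := 1) (m := k * (p + 1)) ?_ ?_ P).trans (pow_one p)
    · rw [hcard, pow_one, mul_assoc]
    · intro h
      rcases hp.out.dvd_mul.mp h with h | h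
      · exact absurd (Nat.le_of_dvd hk0 h) (by omega)
      · exact hp.out.one_lt.ne' (Nat.dvd_one.mp ((Nat.dvd_add_right (dvd_refl p)).mp h))
  obtain ⟨g₀, hg₀⟩ := exists_prime_orderOf_dvd_card' (G := (P : Subgroup G)) p (by rw [hPcard])
  let g : G := g₀
  have hgo : orderOf g = p := by rw [Subgroup.orderOf_coe, hg₀]
  have hgp : ∀ x ∈ (P : Subgroup G), ∃ i : ZMod p, x = g ^ i.val := by
    intro x hx
    have htop : zpowers g₀ = ⊤ := eq_top_of_card_eq _ (by rw [Nat.card_zpowers, hg₀, hPcard])
    obtain ⟨z, hz⟩ := (htop ▸ mem_top (⟨x, hx⟩ : (P : Subgroup G)) : _ ∈ zpowers g₀)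
    obtain ⟨i, hi⟩ := mem_powers_iff_mem_zpowers.mpr (⟨z, hz⟩ : _ ∈ zpowers g₀)
    refine ⟨(i : ZMod p), (congrArg Subtype.val hi).symm.trans ?_⟩
    rw [ZMod.val_natCast]
    show g ^ i = g ^ (i % p)
    rw [← pow_mod_orderOf g i, hgo]
  have hPfix : ∀ (Q : Sylow p G) (x : G), x ∈ (P : Subgroup G) → x • Q = Q → x ≠ 1 → Q = P := by
    intro Q x hx hxQ hx1
    have hxN : x ∈ normalizer ((Q : Subgroup G) : Set G) := Sylow.smul_eq_iff_mem_normalizer.mp hxQ
    have hxp : IsPGroup p (zpowers x) := P.2.to_le (zpowers_le.mpr hx)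
    have hmem : x ∈ (Q : Subgroup G) := by
      have h1 := hxp.inf_normalizer_sylow Q
      exact (h1.le ⟨mem_zpowers x, hxN⟩).2
    have hQcard : Nat.card (Q : Subgroup G) = p := by
      rw [Q.card_eq_multiplicity, ← P.card_eq_multiplicity, hPcard]
    have hz : Nat.card (zpowers x) = p := by
      have := Subgroup.card_dvd_of_le (zpowers_le.mpr hx)
      rw [hPcard] at this
      rcases (Nat.dvd_prime hp.out).mp this with h | h
      · exact absurd (orderOf_eq_one_iff.mp ((Nat.card_zpowers x).symm.trans h)) hx1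
      · exact h
    refine Sylow.ext ?_
    rw [← eq_of_le_of_card_ge (zpowers_le.mpr hx) (by rw [hz, hPcard]),
      ← eq_of_le_of_card_ge (zpowers_le.mpr hmem) (by rw [hz, hQcard])]
  have hne : ∃ Q : Sylow p G, Q ≠ P := by
    by_contra hcon
    simp only [not_exists, not_not] at hcon
    have : Nat.card (Sylow p G) = 1 := Nat.card_eq_one_iff_unique.mpr
      ⟨⟨fun a b => (hcon a).trans (hcon b).symm⟩, ⟨P⟩⟩
    have := hp.out.two_le
    omega
  obtain ⟨Q, hQ⟩ := hne
  have hPP : ∀ x ∈ (P : Subgroup G), x • P = P := fun x hx =>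
    Sylow.smul_eq_iff_mem_normalizer.mpr (le_normalizer hx)
  have hgP : ∀ i : ℕ, g ^ i ∈ (P : Subgroup G) := fun i => pow_mem g₀.2 i
  let f : Option (ZMod p) → Sylow p G := fun o => o.elim P fun i => g ^ i.val • Q
  have hfne : ∀ i : ZMod p, g ^ i.val • Q ≠ P := fun i h => hQ <| by
    have := congrArg ((g ^ i.val)⁻¹ • ·) h
    simp only [inv_smul_smul] at this
    rw [this, hPP _ (inv_mem (hgP _))]
  have hf : Function.Injective f := by
    rintro (_ | i) (_ | j) h
    · rfl
    · exact absurd h.symm (hfne j)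
    · exact absurd h (hfne i)
    · have h' : g ^ (j - i).val • Q = Q := by
        have e : g ^ j.val = g ^ (j - i).val * g ^ i.val := by
          rw [← pow_val_add hgo, sub_add_cancel]
        have h0 : g ^ i.val • Q = g ^ j.val • Q := h
        rw [e, ← (Commute.pow_pow_self g i.val (j - i).val).eq, mul_smul] at h0
        exact (smul_left_cancel (g ^ i.val) h0).symm
      by_contra hne
      refine hQ (hPfix Q _ (hgP _) h' fun h1 => hne ?_)
      have h2 : p ∣ (j - i).val := (dvd_of_eq hgo.symm).trans (orderOf_dvd_of_pow_eq_one h1)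
      have h3 : (j - i).val = 0 := Nat.eq_zero_of_dvd_of_lt h2 (ZMod.val_lt _)
      rw [ZMod.val_eq_zero, sub_eq_zero] at h3
      rw [h3]
  let e : Option (ZMod p) ≃ Sylow p G := Equiv.ofBijective f
    ((Nat.bijective_iff_injective_and_card f).mpr ⟨hf, by rw [Finite.card_option, Nat.card_zmod, hn]⟩)
  let φ : G →* Equiv.Perm (Option (ZMod p)) :=
    e.symm.permCongrHom.toMonoidHom.comp (MulAction.toPermHom G (Sylow p G))
  have hφ : ∀ (n : G) o, f (φ n o) = n • f o := fun n o => e.apply_symm_apply (n • e o)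
  have hnone : ∀ n : G, φ n none = none ↔ n ∈ normalizer ((P : Subgroup G) : Set G) := fun n => by
    exact ⟨fun h => Sylow.smul_eq_iff_mem_normalizer.mp
        (by have := hφ n none; rw [h] at this; exact this.symm),
      fun h => hf ((hφ n none).trans (Sylow.smul_eq_iff_mem_normalizer.mpr h))⟩
  have hinj : Function.Injective φ := by
    rcases SmallGroups.injective_or_trivial φ with h | h
    · exact h
    · exfalso
      obtain ⟨x, hx⟩ := MulAction.exists_smul_eq G P Q
      have h1 := hφ x none
      rw [h x] at h1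
      exact hQ (h1.trans hx).symm
  have hshift : ∀ i : ZMod p, ⇑(φ (g ^ i.val)) = shiftP i := by
    intro i
    funext o
    refine hf ((hφ _ o).trans ?_)
    cases o with
    | none => exact hPP _ (hgP _)
    | some j =>
      show g ^ i.val • g ^ j.val • Q = g ^ (j + i).val • Q
      rw [← mul_smul, pow_val_add hgo, (Commute.pow_pow_self g i.val j.val).eq]
  -- the two-point stabilizer
  let H : Subgroup G :=
    normalizer ((P : Subgroup G) : Set G) ⊓ MulAction.stabilizer G Q
  have hscale : ∀ n ∈ H, ∃ m : ZMod p, ⇑(φ n) = scaleP m := by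
    intro n hn'
    obtain ⟨hnN, hnQ⟩ := mem_inf.mp hn'
    obtain ⟨m, hm⟩ := hgp _ ((mem_normalizer_iff.mp hnN g).mp g₀.2)
    refine ⟨m, funext fun o => ?_⟩
    cases o with
    | none => exact (hnone n).mpr hnN
    | some j =>
      refine hf ((hφ _ _).trans ?_)
      show n • g ^ j.val • Q = g ^ (m * j).val • Q
      have h1 : n * g ^ j.val = g ^ (m * j).val * n := by
        rw [pow_val_mul hgo, ← hm, conj_pow, inv_mul_cancel_right]
      rw [← mul_smul, h1, mul_smul, hnQ]
  have hNcard : Nat.card (normalizer ((P : Subgroup G) : Set G)) = p * k := by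
    have := SmallGroups.card_sylow_mul_card_normalizer P
    rw [hn, hcard, mul_comm (p * k)] at this
    exact Nat.eq_of_mul_eq_mul_left (by omega) this
  have hHcard : Nat.card H = k := by
    have hb : Function.Bijective (fun x : ZMod p × H =>
        (⟨g ^ x.1.val * x.2, mul_mem (le_normalizer (hgP _)) (mem_inf.mp x.2.2).1⟩ :
          normalizer ((P : Subgroup G) : Set G))) := by
      constructor
      · rintro ⟨i, h⟩ ⟨j, h'⟩ he
        have he' : g ^ i.val * (h : G) = g ^ j.val * (h' : G) := congrArg Subtype.val he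
        have h2 : g ^ i.val • Q = g ^ j.val • Q := by
          have := congrArg (fun z : G => z • Q) he'
          simp only [mul_smul] at this
          rwa [(mem_inf.mp h.2).2, (mem_inf.mp h'.2).2] at this
        obtain rfl : i = j := Option.some_injective _ (hf h2)
        exact Prod.ext rfl (Subtype.ext (mul_left_cancel he'))
      · rintro ⟨n, hnN⟩
        rcases hcase : φ n (some 0) with _ | i
        · exfalso
          have := (φ n).injective (hcase.trans ((hnone n).mpr hnN).symm)
          simp at this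
        · have hgi : g ^ i.val ∈ normalizer ((P : Subgroup G) : Set G) := le_normalizer (hgP _)
          have h2 : (g ^ i.val)⁻¹ * n ∈ H := by
            refine mem_inf.mpr ⟨mul_mem (inv_mem hgi) hnN, ?_⟩
            have h3 := hφ n (some 0)
            rw [hcase] at h3
            show ((g ^ i.val)⁻¹ * n) • Q = Q
            rw [mul_smul, inv_smul_eq_iff]
            simpa [f, ZMod.val_zero] using h3.symm
          exact ⟨(i, ⟨_, h2⟩), Subtype.ext (mul_inv_cancel_left _ _)⟩
    have := Nat.card_eq_of_bijective _ hb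
    rw [Nat.card_prod, Nat.card_zmod, hNcard] at this
    exact Nat.eq_of_mul_eq_mul_left hp.out.pos this
  have hroot : ∀ (h : H) (m : ZMod p), ⇑(φ h.1) = scaleP m → m ^ k = 1 := by
    intro h m hm
    have h1 : ∀ i : ℕ, φ (h.1 ^ i) (some 1) = some (m ^ i) := by
      intro i
      induction i with
      | zero => simp
      | succ i ih => rw [pow_succ', map_mul, Equiv.Perm.mul_apply, ih, hm, pow_succ']; rfl
    have h2 : h.1 ^ k = 1 := by
      rw [← hHcard]
      exact congrArg Subtype.val (pow_card_eq_one' (x := h))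
    have h3 := h1 k
    rw [h2, map_one] at h3
    exact (Option.some_injective _ h3).symm
  let mult : H → {s : ZMod p // s ^ k = 1} := fun h =>
    ⟨(hscale h h.2).choose, hroot h _ (hscale h h.2).choose_spec⟩
  have hmult : ∀ h : H, ⇑(φ h.1) = scaleP (mult h).1 := fun h => (hscale h h.2).choose_spec
  have hmultsurj : Function.Surjective mult := by
    refine ((Nat.bijective_iff_injective_and_card mult).mpr ⟨fun a b hab => ?_,
      hHcard.trans hroots.symm⟩).2
    refine Subtype.ext (hinj (DFunLike.coe_injective ?_))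
    rw [hmult, hmult, hab]
  refine ⟨⟨φ, hinj, g, ?_, ?_, ?_, ?_, ?_⟩⟩
  · have := hshift 1
    rwa [ZMod.val_one, pow_one] at this
  · intro n h1 h2
    have hnH : n ∈ H := by
      refine mem_inf.mpr ⟨(hnone n).mp h1, ?_⟩
      have := hφ n (some 0)
      rw [h2] at this
      simpa [f, ZMod.val_zero] using this.symm
    exact ⟨(mult ⟨n, hnH⟩).1, (mult ⟨n, hnH⟩).2, hmult ⟨n, hnH⟩⟩
  · intro s hs
    obtain ⟨h, hh⟩ := hmultsurj ⟨s, hs⟩
    exact ⟨h.1, by rw [hmult, hh]⟩
  · intro n hn'
    let K := closure ({g, n} : Set G)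
    have hgK : g ∈ K := subset_closure (Set.mem_insert _ _)
    have hnK : n ∈ K := subset_closure (Set.mem_insert_of_mem _ rfl)
    have hPK : (P : Subgroup G) ≤ K := fun x hx => by
      obtain ⟨i, rfl⟩ := hgp x hx
      exact pow_mem hgK _
    have horb : ∀ o, ∃ a ∈ K, φ a none = o := by
      intro o
      cases o with
      | none => exact ⟨1, one_mem _, by simp⟩
      | some i =>
        obtain ⟨j, hj⟩ : ∃ j, φ n none = some j := Option.ne_none_iff_exists'.mp hn'
        refine ⟨g ^ (i - j).val * n, mul_mem (pow_mem hgK _) hnK, ?_⟩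
        rw [map_mul, Equiv.Perm.mul_apply, hj, hshift]
        simp [shiftP]
    have hall : ∀ R : Sylow p G, (R : Subgroup G) ≤ K := by
      intro R
      obtain ⟨a, ha, hao⟩ := horb (e.symm R)
      have h1 := hφ a none
      rw [hao] at h1
      have hR : R = a • P := (e.apply_symm_apply R).symm.trans h1
      rw [hR]
      rintro - ⟨x, hx, rfl⟩
      exact mul_mem (mul_mem ha (hPK hx)) (inv_mem ha)
    have hnorm : (⨆ R : Sylow p G, (R : Subgroup G)).Normal := by
      refine ⟨fun x hx a => ?_⟩
      refine (?_ : (⨆ R : Sylow p G, (R : Subgroup G)) ≤ Subgroup.comap (MulAut.conj a).toMonoidHom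
        (⨆ R : Sylow p G, (R : Subgroup G))) hx
      refine iSup_le fun R y hy => ?_
      exact le_iSup (fun R : Sylow p G => (R : Subgroup G)) (a • R) ⟨y, hy, rfl⟩
    refine top_le_iff.mp ((SmallGroups.eq_top_of_normal hnorm fun h => ?_).ge.trans (iSup_le hall))
    exact P.ne_bot_of_dvd_card (hcard ▸ (dvd_mul_right p _).trans (dvd_mul_right _ _))
      (le_bot_iff.mp (h ▸ le_iSup (fun R : Sylow p G => (R : Subgroup G)) P))
  · obtain ⟨n, hn'⟩ := MulAction.exists_smul_eq G P Q
    have h1 : φ n none = some 0 := hf ((hφ n none).trans (by simpa [f, ZMod.val_zero] using hn'))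
    obtain ⟨i, hi⟩ : ∃ i, φ n (some i) = none := by
      rcases hc : (φ n).symm none with _ | i
      · have := congrArg (φ n) hc
        rw [Equiv.apply_symm_apply, h1] at this
        exact absurd this.symm (by simp)
      · exact ⟨i, by rw [← hc, Equiv.apply_symm_apply]⟩
    refine ⟨n * g ^ i.val, ?_, ?_⟩
    · rw [map_mul, Equiv.Perm.mul_apply, hshift]
      exact h1
    · rw [map_mul, Equiv.Perm.mul_apply, hshift]
      simpa [shiftP] using hi

end Cfsg.Agent.SmallPSL
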