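import Cfsg.Agent.SmallPSL.Recognise

/-!
The finite checks for `p = 7, 11, 13`.
-/

namespace Cfsg.Agent.SmallPSL

theorem check_seven : SwapCheck 7 3 (2 : ZMod 7) 5 := by decide +kernel

theorem check_eleven : SwapCheck 11 5 (4 : ZMod 11) 6 := by decide +kernel

theorem check_thirteen : SwapCheck 13 6 (4 : ZMod 13) 7 := by decide +kernel

end Cfsg.Agent.SmallPSL
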