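import Cfsg.Agent.SmallPSL.Action

/-!
The finite check pinning down the swapping element in a `LineModel`, and the resulting recognition.
-/

namespace Cfsg.Agent.SmallPSL

open Subgroup

variable {p : ℕ}

/-- The only possible shape of a map swapping `∞, 0` that conjugates scalings to scalings. -/
def mkSwap (k : ℕ) (h ε' a b c : ZMod p) : Option (ZMod p) → Option (ZMod p)
  | none => some 0
  | some x =>
    if x = 0 then none
    else match (List.range k).find? (fun i => h ^ i == x) with
      | some i => some (a * c ^ i)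
      | none => match (List.range k).find? (fun i => h ^ i == x * ε') with
        | some i => some (b * c ^ i)
        | none => none

/-- The closure relation satisfied by a swapping element. -/
abbrev SwapRel [NeZero p] (k : ℕ) (τ : Option (ZMod p) → Option (ZMod p)) (a : ZMod p) : Prop :=
  ∃ y : ZMod p, τ (some y) = some (-1) ∧ ∃ s : ZMod p, s ^ k = 1 ∧
    ∀ x, shiftP (-a) (τ (shiftP 1 (τ (shiftP y x)))) = scaleP s (τ x)

/-- The translates of the third power of the swap commute with it. -/
abbrev CubeCommutes [NeZero p] (τ : Option (ZMod p) → Option (ZMod p)) : Prop :=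
  ∀ (u : ZMod p) x, τ (τ (τ (shiftP u (τ (τ (τ (shiftP (-u) x))))))) =
    shiftP u (τ (τ (τ (shiftP (-u) (τ (τ (τ x)))))))

/-- The swap is `x ↦ -r² / x`. -/
abbrev IsInversion [NeZero p] (τ : Option (ZMod p) → Option (ZMod p)) : Prop :=
  ∃ r : ZMod p, r ≠ 0 ∧ ∀ x : ZMod p, x ≠ 0 → (τ (some x)).map (fun v => v * x) = some (-(r * r))

/-- The finite condition on the data `k, h, ε'`. -/
abbrev SwapCheck (p k : ℕ) [NeZero p] (h ε' : ZMod p) : Prop :=
  ∀ c : ZMod p, c ^ k = 1 → ∀ a : ZMod p, a ≠ 0 → ∀ b : ZMod p, b ≠ 0 →
    SwapRel k (mkSwap k h ε' a b c) a →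
      CubeCommutes (mkSwap k h ε' a b c) ∨ IsInversion (mkSwap k h ε' a b c)

variable [hp : Fact p.Prime]

theorem LineModel.shift {k : ℕ} {G : Type*} [Group G] (M : LineModel p k G) (i : ℕ) :
    ⇑(M.φ (M.g ^ i)) = shiftP (i : ZMod p) := by
  induction i with
  | zero =>
    funext o
    cases o <;> simp [shiftP]
  | succ i ih =>
    funext o
    rw [pow_succ', map_mul, Equiv.Perm.mul_apply, ih, M.g_eq]
    cases o <;> simp [shiftP, add_assoc]

theorem LineModel.exists_shift {k : ℕ} {G : Type*} [Group G] (M : LineModel p k G) (u : ZMod p) :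
    ∃ n : G, ⇑(M.φ n) = shiftP u :=
  ⟨M.g ^ u.val, by rw [M.shift, ZMod.natCast_zmod_val]⟩

/-- A simple group with a `LineModel` of the order of `PSL₂(𝔽_p)` is `PSL₂(𝔽_p)`. -/
theorem equiv_psl_of_lineModel {G : Type*} [Group G] [Finite G] [IsSimpleGroup G]
    (hG : ¬ IsMulCommutative G) (hp5 : 5 ≤ p) {k : ℕ} (M : LineModel p k G) (h ε ε' : ZMod p)
    (hh : h ^ k = 1) (hε : ε * ε' = 1)
    (hlog : ∀ x : ZMod p, x ≠ 0 → ∃ i < k, x = h ^ i ∨ x = ε * h ^ i)
    (hcheck : SwapCheck p k h ε')
    (hcard : 2 * Nat.card G = p * (p ^ 2 - 1)) {F : Type*} [Field F] [Fintype F]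
    (hF : Fintype.card F = p) :
    Nonempty (G ≃* Matrix.ProjectiveSpecialLinearGroup (Fin 2) F) := by
  classical
  obtain ⟨t, ht0, ht1⟩ := M.swap
  have hti0 : (M.φ t)⁻¹ none = some 0 := (M.φ t).symm_apply_eq.mpr ht1.symm
  have hti1 : (M.φ t)⁻¹ (some 0) = none := (M.φ t).symm_apply_eq.mpr ht0.symm
  let τ : Option (ZMod p) → Option (ZMod p) := M.φ t
  obtain ⟨m, hm⟩ := M.scale h hh
  obtain ⟨c, hck, hc⟩ := M.stab (t * m * t⁻¹)
    (by simp only [map_mul, map_inv, Equiv.Perm.mul_apply, hti0, hm, scaleP, mul_zero, ht1])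
    (by simp only [map_mul, map_inv, Equiv.Perm.mul_apply, hti1, hm, scaleP, ht0])
  have hconj : ∀ o, τ (scaleP h o) = scaleP c (τ o) := fun o => by
    have h1 := congrFun hc (τ o)
    rw [map_mul, map_mul, map_inv, Equiv.Perm.mul_apply, Equiv.Perm.mul_apply] at h1
    rw [show (M.φ t)⁻¹ (τ o) = o from (M.φ t).symm_apply_apply o, hm] at h1
    exact h1
  have hsome : ∀ x : ZMod p, x ≠ 0 → ∃ v, τ (some x) = some v ∧ v ≠ 0 := by
    intro x hx
    rcases hv : τ (some x) with _ | v
    · exact absurd ((M.φ t).injective (hv.trans ht1.symm)) (by simpa using hx)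
    · exact ⟨v, rfl, fun h0 => by
        have := (M.φ t).injective ((hv.trans (congrArg some h0)).trans ht0.symm)
        simp at this⟩
  have hε0 : ε ≠ 0 := fun h0 => by simp [h0] at hε
  obtain ⟨a, ha, ha0⟩ := hsome 1 one_ne_zero
  obtain ⟨b, hb, hb0⟩ := hsome ε hε0
  have hpow : ∀ x v : ZMod p, τ (some x) = some v → ∀ i : ℕ, τ (some (x * h ^ i)) = some (v * c ^ i) := by
    intro x v hxv i
    induction i with
    | zero => simpa using hxv
    | succ i ih =>
      have := hconj (some (x * h ^ i))
      rw [ih] at this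
      simp only [scaleP] at this
      rw [show x * h ^ (i + 1) = h * (x * h ^ i) by rw [pow_succ]; ring, this]
      congr 1
      rw [pow_succ]; ring
  have hτ : τ = mkSwap k h ε' a b c := by
    funext o
    cases o with
    | none => exact ht0
    | some x =>
      by_cases hx : x = 0
      · subst hx
        simp only [mkSwap, if_true]
        exact ht1
      simp only [mkSwap, if_neg hx]
      split
      · next i hi =>
        have := List.find?_some hi
        rw [beq_iff_eq] at this
        rw [← this]
        simpa using hpow 1 a ha i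
      · next hnone =>
        split
        · next i hi =>
          have := List.find?_some hi
          rw [beq_iff_eq] at this
          have hx' : x = ε * h ^ i := by rw [this, mul_comm x, ← mul_assoc, hε, one_mul]
          rw [hx']
          exact hpow ε b hb i
        · next hnone' =>
          exfalso
          obtain ⟨i, hi, hxi⟩ := hlog x hx
          rcases hxi with rfl | rfl
          · exact absurd (List.find?_eq_none.mp hnone i (List.mem_range.mpr hi)) (by simp)
          · refine absurd (List.find?_eq_none.mp hnone' i (List.mem_range.mpr hi)) ?_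
            rw [mul_comm ε (h ^ i), mul_assoc, hε, mul_one]
            simp
  have hrel : SwapRel k τ a := by
    rcases hy : (M.φ t).symm (some (-1)) with _ | y
    · have := congrArg (M.φ t) hy
      rw [Equiv.apply_symm_apply, ht0] at this
      exact absurd (Option.some_injective _ this) (by simp)
    have hy' : τ (some y) = some (-1) := by
      show (M.φ t) (some y) = _
      rw [← hy, Equiv.apply_symm_apply]
    obtain ⟨u, hu⟩ := M.exists_shift (-a)
    obtain ⟨u₁, hu₁⟩ := M.exists_shift 1
    obtain ⟨u₂, hu₂⟩ := M.exists_shift y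
    obtain ⟨s, hsk, hs⟩ := M.stab (u * t * u₁ * t * u₂ * t⁻¹)
      (by
        simp only [map_mul, map_inv, Equiv.Perm.mul_apply, hti0, hu, hu₁, hu₂, shiftP, zero_add]
        rw [show M.φ t (some y) = some (-1) from hy']
        simp [shiftP, ht1])
      (by
        simp only [map_mul, map_inv, Equiv.Perm.mul_apply, hti1, hu, hu₁, hu₂, shiftP, ht0, zero_add]
        rw [show M.φ t (some 1) = some a from ha]
        simp [shiftP])
    refine ⟨y, hy', s, hsk, fun x => ?_⟩
    have h1 := congrFun hs (τ x)
    simp only [map_mul, map_inv, Equiv.Perm.mul_apply, hu, hu₁, hu₂] at h1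
    rw [show (M.φ t)⁻¹ (τ x) = x from (M.φ t).symm_apply_apply x] at h1
    exact h1
  have hgen : closure ({M.g, t} : Set G) = ⊤ := M.gen t (by simp [ht0])
  rcases hτ ▸ hcheck c hck a ha0 b hb0 (hτ ▸ hrel) with hcomm | ⟨r, hr, hinv⟩
  · exfalso
    let w := t * t * t
    have hw : ∀ o, M.φ w o = τ (τ (τ o)) := fun o => by
      simp only [w, map_mul, Equiv.Perm.mul_apply]; rfl
    have hw0 : M.φ w none ≠ none := by
      rw [hw, show τ none = some 0 from ht0, show τ (some 0) = none from ht1,
        show τ none = some 0 from ht0]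
      exact (Option.some_ne_none 0)
    have hwgen := M.gen w hw0
    let S : Set G := Set.range fun u : ZMod p => M.g ^ u.val * w * (M.g ^ u.val)⁻¹
    have hwS : ∀ u : ZMod p, Commute w (M.g ^ u.val * w * (M.g ^ u.val)⁻¹) := by
      intro u
      have hi : ⇑((M.φ (M.g ^ u.val))⁻¹) = shiftP (-u) := by
        funext o
        refine (M.φ (M.g ^ u.val)).injective ?_
        rw [show M.φ (M.g ^ u.val) ((M.φ (M.g ^ u.val))⁻¹ o) = o from
          (M.φ (M.g ^ u.val)).apply_symm_apply o, M.shift, ZMod.natCast_zmod_val]
        cases o <;> simp [shiftP]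
      refine M.inj (Equiv.ext fun o => ?_)
      simp only [map_mul, map_inv, Equiv.Perm.mul_apply, hi, hw, M.shift, ZMod.natCast_zmod_val]
      exact hcomm u o
    let A := closure S
    have hwA : w ∈ centralizer (A : Set G) := by
      refine mem_centralizer_iff.mpr ?_
      intro x hx
      refine closure_induction (p := fun x _ => x * w = w * x) ?_ ?_ ?_ ?_ hx
      · rintro - ⟨u, rfl⟩; exact (hwS u).eq.symm
      · simp
      · intro x y _ _ h1 h2; exact (Commute.mul_left h1 h2).eq
      · intro x _ h1; exact (Commute.inv_left h1).eq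
    have hnorm : A.Normal := by
      refine normalizer_eq_top_iff.mp (top_le_iff.mp (hwgen.ge.trans ((closure_le _).mpr ?_)))
      rintro x (rfl | rfl)
      · refine mem_normalizer_iff_map_conj_eq.mpr (eq_of_le_of_card_ge ?_ ?_)
        · refine (map_le_iff_le_comap).mpr ((closure_le _).mpr ?_)
          rintro - ⟨u, rfl⟩
          refine subset_closure ⟨u + 1, M.inj ?_⟩
          have hsh : M.g ^ (u + 1).val = M.g * M.g ^ u.val := M.inj (DFunLike.coe_injective (by
            rw [← pow_succ', M.shift, M.shift, ZMod.natCast_zmod_val, Nat.cast_succ,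
              ZMod.natCast_zmod_val]))
          beta_reduce
          rw [hsh]
          simp [mul_assoc]
        · rw [card_map_of_injective (MulEquiv.injective _)]
      · refine mem_normalizer_iff.mpr fun y => ⟨fun hy => ?_, fun hy => ?_⟩
        · rwa [← mem_centralizer_iff.mp hwA y hy, mul_inv_cancel_right]
        · have h' : w * y * w⁻¹ * w = w * (w * y * w⁻¹) := mem_centralizer_iff.mp hwA _ hy
          rw [inv_mul_cancel_right] at h'
          rwa [mul_left_cancel h']
    have hwne : w ≠ 1 := fun h1 => hw0 (by simp [h1])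
    have hAtop : A = ⊤ := SmallGroups.eq_top_of_normal hnorm fun h0 => hwne <| by
      have : M.g ^ (0 : ZMod p).val * w * (M.g ^ (0 : ZMod p).val)⁻¹ ∈ A := subset_closure ⟨0, rfl⟩
      simpa [h0, ZMod.val_zero] using this
    have : w ∈ center G := mem_center_iff.mpr fun y =>
      mem_centralizer_iff.mp hwA y (hAtop ▸ mem_top y)
    rw [SmallGroups.center_eq_bot hG, mem_bot] at this
    exact hwne this
  · refine equiv_psl_of_generators hp5 M.φ M.inj M.g t hgen M.g_eq r hr (funext fun o => ?_) hcard hF
    cases o with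
    | none => exact ht0
    | some x =>
      by_cases hx : x = 0
      · subst hx
        simp only [invP, if_true]
        exact ht1
      · obtain ⟨v, hv, -⟩ := hsome x hx
        have h1 := hinv x hx
        rw [hv, Option.map_some] at h1
        simp only [invP, if_neg hx]
        rw [show M.φ t (some x) = some v from hv, ← Option.some_injective _ h1,
          mul_div_cancel_right₀ _ hx]

end Cfsg.Agent.SmallPSL
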