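import Mathlib
import Cfsg.Agent.SmallGroups.Basic

/-!
The projective line over the field with nine elements, written `(ℤ/3)² ∪ {∞}`, and the finite
check used for simple groups of order 360.
-/

namespace Cfsg.Agent.SmallPSL.Nine

/-- The affine line over the field with nine elements. -/
abbrev V := ZMod 3 × ZMod 3

/-- The projective line over the field with nine elements. -/
abbrev Pt := Option V

/-- Multiplication by `i`. -/
def rot (v : V) : V := (-v.2, v.1)

/-- Translations of the projective line. -/
def sh (u : V) : Pt → Pt := Option.map (fun v => v + u)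

/-- `x ↦ iⁿ x` on the projective line. -/
def rotPow (n : ℕ) : Pt → Pt := Option.map (rot^[n])

/-- `x ↦ -1 / x` on the projective line. -/
def w0 : Pt → Pt
  | none => some (0, 0)
  | some (a, b) =>
    if (a, b) = (0, 0) then none else some (-a * (a * a + b * b), b * (a * a + b * b))

theorem w0_involutive : Function.Involutive w0 := by
  have h : ∀ x, w0 (w0 x) = x := by decide
  exact h

/-- Candidates for the swapping element. -/
def cand (a b : V) (j : ℕ) : Pt → Pt
  | none => some (0, 0)
  | some x =>
    if x = (0, 0) then none
    else match (List.range 4).find? (fun n => rot^[n] (1, 0) == x) with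
      | some n => some (rot^[j * n] a)
      | none => match (List.range 4).find? (fun n => rot^[n] (1, 1) == x) with
        | some n => some (rot^[j * n] b)
        | none => none

/-- The closure relation of the swap. -/
abbrev Rel (τ : Pt → Pt) (a : V) : Prop :=
  ∃ y : V, τ (some y) = some (-1, 0) ∧ ∃ s : Fin 4,
    ∀ x, sh (-a) (τ (sh (1, 0) (τ (sh y x)))) = rotPow s (τ x)

set_option synthInstance.maxSize 1024 in
set_option synthInstance.maxHeartbeats 100000 in
/-- Candidates satisfying the relation are `x ↦ -s / x`. -/
theorem check : ∀ a : V, a ≠ (0, 0) → ∀ b : V, b ≠ (0, 0) → ∀ j : Fin 4,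
    Rel (cand a b j) a → ∃ s : Fin 4, ∀ x, cand a b j x = rotPow s (w0 x) := by
  decide +kernel

theorem cover : ∀ x : V, x ≠ (0, 0) → ∃ n : Fin 4, rot^[n] (1, 0) = x ∨ rot^[n] (1, 1) = x := by
  decide

theorem rot_iterate_four : ∀ v : V, rot^[4] v = v := by decide

/-- The reflection `(a, b) ↦ (a, -b)` of the projective line. -/
def reflectPerm : Equiv.Perm Pt :=
  Equiv.optionCongr ((Equiv.refl (ZMod 3)).prodCongr (Equiv.neg (ZMod 3)))

theorem sign_reflectPerm : Equiv.Perm.sign reflectPerm = -1 := by decide +kernel

end Cfsg.Agent.SmallPSL.Nine
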